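import Groth.Agent.Lib.Henselian.LocalPair
import Groth.Agent.Lib.Henselian.Henselization
import Groth.Agent.Lib.Henselian.Permanence
import Groth.Agent.Lib.Henselian.EssEtale
import Groth.Agent.H24.EssEtale.Basic
import Mathlib.RingTheory.EssentialFiniteness

/-!
# Henselizations of rings essentially of finite type along finite maps
-/

set_option autoImplicit false

universe u

open IsLocalRing TensorProduct

namespace Groth.Agent.Lib.HensFin45

/-- `S` is a henselization of a local `A`-algebra essentially of finite type. -/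
def EftHens (A : Type u) [CommRing A] (S : Type u) [CommRing S] [IsLocalRing S] [Algebra A S] : Prop :=
  ∃ (B : Type u) (_ : CommRing B) (_ : Algebra A B) (_ : Algebra.FiniteType A B) (p : Ideal B) (_ : p.IsPrime)
    (_ : Algebra (Localization.AtPrime p) S) (_ : IsScalarTower A (Localization.AtPrime p) S)
    (_ : IsLocalHom (algebraMap (Localization.AtPrime p) S)), Hensel.IsHenselization (Localization.AtPrime p) S

/-- Transport along an isomorphism of the base. -/
theorem isHenselization_of_ringEquiv {D D' S : Type u} [CommRing D] [IsLocalRing D] [CommRing D']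
    [IsLocalRing D'] [CommRing S] [IsLocalRing S] [Algebra D S] [IsLocalHom (algebraMap D S)]
    [h : Hensel.IsHenselization D S] (e : D' ≃+* D) [Algebra D' S] [IsLocalHom (algebraMap D' S)]
    (he : ∀ x, algebraMap D' S x = algebraMap D S (e x)) : Hensel.IsHenselization D' S := by
  refine ⟨h.henselian, fun T _ _ f hf => ?_⟩
  have hloc : IsLocalHom (f.comp e.symm.toRingHom) := by
    refine ⟨fun x hx => ?_⟩
    have := hf.map_nonunit _ hx
    simpa using this.map e
  obtain ⟨g, hg, huniq⟩ := h.universal T (f.comp e.symm.toRingHom) hloc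
  refine ⟨g, RingHom.ext fun x => ?_, fun g' hg' => huniq g' (RingHom.ext fun x => ?_)⟩
  · have := RingHom.congr_fun hg (e x)
    simpa [he] using this
  · have := RingHom.congr_fun hg' (e.symm x)
    simpa [he] using this

theorem eftHens_of_local {A D S : Type u} [CommRing A] [CommRing D] [IsLocalRing D] [CommRing S]
    [IsLocalRing S] [Algebra A D] [Algebra.EssFiniteType A D] [Algebra A S] [Algebra D S]
    [IsScalarTower A D S] [IsLocalHom (algebraMap D S)] [Hensel.IsHenselization D S] : EftHens A S := by
  let B := Algebra.EssFiniteType.subalgebra A D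
  let p : Ideal B := (maximalIdeal D).comap (algebraMap B D)
  have : p.IsPrime := Ideal.comap_isPrime _ _
  have : IsLocalization p.primeCompl D := by
    refine IsLocalization.of_le (Algebra.EssFiniteType.submonoid A D) _ (fun x hx hxp => ?_) fun r hr => ?_
    · exact (mem_maximalIdeal _).1 hxp
        (IsLocalization.map_units D (⟨x, hx⟩ : Algebra.EssFiniteType.submonoid A D))
    · exact of_not_not fun h => hr ((mem_maximalIdeal _).2 h)
  let e : Localization.AtPrime p ≃ₐ[B] D := IsLocalization.algEquiv p.primeCompl _ _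
  let : Algebra (Localization.AtPrime p) S := ((algebraMap D S).comp e.toRingEquiv.toRingHom).toAlgebra
  have hloc : IsLocalHom (algebraMap (Localization.AtPrime p) S) := by
    refine ⟨fun x hx => ?_⟩
    have : IsUnit (e x) := IsLocalHom.map_nonunit (f := algebraMap D S) _ hx
    simpa using this.map e.symm
  refine ⟨B, inferInstance, inferInstance, inferInstance, p, inferInstance, inferInstance,
    IsScalarTower.of_algebraMap_eq fun a => ?_, hloc, isHenselization_of_ringEquiv e.toRingEquiv fun _ => rfl⟩
  show algebraMap A S a = algebraMap D S (e (algebraMap A (Localization.AtPrime p) a))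
  rw [IsScalarTower.algebraMap_apply A B (Localization.AtPrime p), e.commutes,
    ← IsScalarTower.algebraMap_apply A B D, ← IsScalarTower.algebraMap_apply A D S]

/-- A finite subset of a henselization comes from an essentially étale local algebra with the same
henselization. -/
theorem exists_stage {R S : Type u} [CommRing R] [IsLocalRing R] [CommRing S] [IsLocalRing S] [Algebra R S]
    [IsLocalHom (algebraMap R S)] [hS : Hensel.IsHenselization R S] (s : Finset S) :
    ∃ (E : Type u) (_ : CommRing E) (_ : IsLocalRing E) (_ : Algebra R E) (_ : Algebra E S)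
      (_ : IsScalarTower R E S) (_ : IsLocalHom (algebraMap E S)) (_ : Algebra.EssFiniteType R E),
      Hensel.IsHenselization E S ∧ (s : Set S) ⊆ Set.range (algebraMap E S) := by
  classical
  let e := Henselian.Henselization.equivOfIsHenselization R S
  obtain ⟨A', _, _, hA', φ, hφ⟩ := Henselian.Pointed.Lim.exists_etale_range (s.image e.symm)
  let ψ : A' →ₐ[R] S := e.toAlgHom.comp φ
  let q := (maximalIdeal S).comap ψ.toRingHom
  have : q.IsPrime := Ideal.comap_isPrime _ _
  let L := Localization.AtPrime q
  let g : L →ₐ[R] S := IsLocalization.liftAlgHom (M := q.primeCompl) (f := ψ)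
    fun y => notMem_maximalIdeal.mp y.2
  have hg : ∀ x, g (algebraMap A' L x) = ψ x := fun x => IsLocalization.lift_eq _ x
  have hL : EGA4loc.IsEssentiallyEtale R L := by
    refine ⟨A', inferInstance, inferInstance, q, inferInstance, hA', ?_, ⟨AlgEquiv.refl⟩⟩
    ext a
    simp only [q, Ideal.mem_comap, AlgHom.toRingHom_eq_coe, RingHom.coe_coe, AlgHom.commutes,
      mem_maximalIdeal, mem_nonunits_iff, isUnit_map_iff]
  have hgloc : IsLocalHom g.toRingHom := by
    refine ⟨fun z hz => ?_⟩
    obtain ⟨a, t, rfl⟩ := IsLocalization.exists_mk'_eq q.primeCompl z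
    rw [IsLocalization.AtPrime.isUnit_mk'_iff L q]
    intro ha
    have h1 : IsUnit (g (IsLocalization.mk' L a t) * ψ t) := hz.mul (notMem_maximalIdeal.mp t.2)
    rw [← hg, ← map_mul, IsLocalization.mk'_spec, hg] at h1
    exact (mem_maximalIdeal _).mp ha h1
  let : Algebra L S := g.toRingHom.toAlgebra
  have : IsScalarTower R L S := IsScalarTower.of_algebraMap_eq fun x => (g.commutes x).symm
  have : IsLocalHom (algebraMap L S) := hgloc
  have : IsLocalHom (algebraMap R L) := H24.EssEtale.isLocalHom hL
  have hstr : EGA4loc.IsStrictlyEssentiallyEtale R L := by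
    refine ⟨hL, RingHom.injective _, fun z => ?_⟩
    obtain ⟨r, hr⟩ := (Henselian.Henselization.residue_bijective R S).2 (ResidueField.map (algebraMap L S) z)
    refine ⟨r, (ResidueField.map (algebraMap L S)).injective ?_⟩
    obtain ⟨r, rfl⟩ := residue_surjective r
    rw [← hr, ResidueField.map_residue, ResidueField.map_residue, ResidueField.map_residue,
      ← IsScalarTower.algebraMap_apply]
  refine ⟨L, inferInstance, inferInstance, inferInstance, inferInstance, inferInstance, inferInstance,
    Algebra.EssFiniteType.comp R A' L, ⟨hS.henselian, fun T _ _ f hf => ?_⟩, fun x hx => ?_⟩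
  · have hf' : IsLocalHom (f.comp (algebraMap R L)) := RingHom.isLocalHom_comp _ _
    obtain ⟨h, hh, huniq⟩ := hS.universal T (f.comp (algebraMap R L)) hf'
    let : Algebra R T := (f.comp (algebraMap R L)).toAlgebra
    have : IsLocalHom (algebraMap R T) := hf'
    have := Henselian.EssEtale.algHom_subsingleton hstr (B := T)
    refine ⟨h, ?_, fun h' hh' => huniq h' ?_⟩
    · exact congrArg AlgHom.toRingHom (Subsingleton.elim
        (⟨h.comp (algebraMap L S), fun a => by
          show h (algebraMap L S (algebraMap R L a)) = _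
          rw [← IsScalarTower.algebraMap_apply]
          exact RingHom.congr_fun hh a⟩ : L →ₐ[R] T) ⟨f, fun a => rfl⟩)
    · show h'.comp (algebraMap R S) = f.comp (algebraMap R L)
      rw [IsScalarTower.algebraMap_eq R L S, ← RingHom.comp_assoc, hh']
  · obtain ⟨a, ha⟩ := hφ (Finset.mem_coe.mpr (Finset.mem_image_of_mem _ (Finset.mem_coe.mp hx)))
    refine ⟨algebraMap A' L a, ?_⟩
    show g _ = x
    rw [hg]
    show e (φ a) = x
    rw [ha, e.apply_symm_apply]

/-- A finite algebra over the henselization of an `A`-algebra essentially of finite type. -/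
theorem eftHens_of_finite {A R S S₁ : Type u} [CommRing A] [CommRing R] [IsLocalRing R] [CommRing S]
    [IsLocalRing S] [IsNoetherianRing S] [CommRing S₁] [IsLocalRing S₁]
    [Algebra A R] [Algebra.EssFiniteType A R] [Algebra A S] [Algebra R S] [IsScalarTower A R S]
    [IsLocalHom (algebraMap R S)] [Hensel.IsHenselization R S]
    [Algebra A S₁] [Algebra S S₁] [IsScalarTower A S S₁] [Module.Finite S S₁]
    [IsLocalHom (algebraMap S S₁)] : EftHens A S₁ := by
  classical
  obtain ⟨m, b, hb⟩ := Module.Finite.exists_fin (R := S) (M := S₁)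
  choose f hfm hfb using fun i : Fin m => (Algebra.IsIntegral.isIntegral (R := S) (b i))
  let π : MvPolynomial (Fin m) S →ₐ[S] S₁ := MvPolynomial.aeval b
  have hπ : Function.Surjective π := by
    rw [← AlgHom.range_eq_top, ← Algebra.adjoin_range_eq_range_aeval, eq_top_iff]
    intro x _
    have hx : x ∈ Submodule.span S (Set.range b) := hb ▸ Submodule.mem_top
    exact Algebra.span_le_adjoin S _ hx
  have : IsNoetherianRing (MvPolynomial (Fin m) S) := inferInstance
  obtain ⟨G, hG⟩ := IsNoetherian.noetherian (RingHom.ker π.toRingHom)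
  let s : Finset S := (Finset.univ.biUnion fun i => (f i).coeffs) ∪ G.biUnion fun g => g.coeffs
  obtain ⟨E, _, _, _, _, _, _, _, hE, hsE⟩ := exists_stage (R := R) (S := S) s
  let : Algebra A E := ((algebraMap R E).comp (algebraMap A R)).toAlgebra
  have : IsScalarTower A R E := IsScalarTower.of_algebraMap_eq fun _ => rfl
  have : IsScalarTower A E S := IsScalarTower.of_algebraMap_eq fun a => by
    rw [IsScalarTower.algebraMap_apply A R E, ← IsScalarTower.algebraMap_apply R E S,
      ← IsScalarTower.algebraMap_apply A R S]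
  have : Algebra.EssFiniteType A E := Algebra.EssFiniteType.comp A R E
  have hfE : ∀ i, f i ∈ Polynomial.lifts (algebraMap E S) := fun i => by
    rw [Polynomial.lifts_iff_coeff_lifts]
    intro j
    by_cases h : (f i).coeff j = 0
    · rw [h]; exact ⟨0, map_zero _⟩
    · exact hsE (Finset.mem_coe.2 (Finset.mem_union_left _ (Finset.mem_biUnion.2
        ⟨i, Finset.mem_univ _, Polynomial.coeff_mem_coeffs h⟩)))
  choose f₀ hf₀ _ hf₀m using fun i => Polynomial.lifts_and_degree_eq_and_monic (hfE i) (hfm i)
  have hGE : ∀ g ∈ G, g ∈ Set.range (MvPolynomial.map (σ := Fin m) (algebraMap E S)) := fun g hg => by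
    rw [MvPolynomial.mem_range_map_iff_coeffs_subset]
    intro c hc
    exact hsE (Finset.mem_coe.2 (Finset.mem_union_right _ (Finset.mem_biUnion.2 ⟨g, hg, hc⟩)))
  choose G₀ hG₀ using hGE
  let J : Ideal (MvPolynomial (Fin m) E) := Ideal.span
    ((Set.range fun i => Polynomial.aeval (MvPolynomial.X i) (f₀ i)) ∪ Set.range fun g : G => G₀ g.1 g.2)
  let D := MvPolynomial (Fin m) E ⧸ J
  let x : Fin m → D := fun i => Ideal.Quotient.mk J (MvPolynomial.X i)
  let : Algebra E S₁ := ((algebraMap S S₁).comp (algebraMap E S)).toAlgebra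
  have : IsScalarTower E S S₁ := IsScalarTower.of_algebraMap_eq fun _ => rfl
  have : IsScalarTower A E S₁ := IsScalarTower.of_algebraMap_eq fun a => by
    rw [IsScalarTower.algebraMap_apply A S S₁, IsScalarTower.algebraMap_apply A E S]
    rfl
  have hcomp : ∀ h : MvPolynomial (Fin m) E, π (MvPolynomial.map (algebraMap E S) h) = MvPolynomial.aeval b h :=
    fun h => MvPolynomial.aeval_map_algebraMap (A := S) b h
  let δ : D →ₐ[E] S₁ := Ideal.Quotient.liftₐ J (MvPolynomial.aeval b) (by
    intro z hz
    refine (Ideal.span_le.2 ?_ hz : z ∈ RingHom.ker (MvPolynomial.aeval (R := E) b))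
    rintro _ (⟨i, rfl⟩ | ⟨g, rfl⟩)
    · show MvPolynomial.aeval b (Polynomial.aeval (MvPolynomial.X i) (f₀ i)) = 0
      rw [← Polynomial.aeval_algHom_apply, MvPolynomial.aeval_X, ← Polynomial.aeval_map_algebraMap S, hf₀]
      exact hfb i
    · show MvPolynomial.aeval b (G₀ g.1 g.2) = 0
      rw [← hcomp, hG₀]
      exact RingHom.mem_ker.1 (hG.le (Ideal.subset_span g.2)))
  have hδx : ∀ i, δ (x i) = b i := fun i => MvPolynomial.aeval_X _ i
  have : Algebra.IsIntegral E D := by
    refine ⟨fun z => ?_⟩
    obtain ⟨h, rfl⟩ := Ideal.Quotient.mk_surjective z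
    induction h using MvPolynomial.induction_on with
    | C c => exact isIntegral_algebraMap
    | add p q hp hq => rw [map_add]; exact hp.add hq
    | mul_X p i hp =>
      rw [map_mul]
      refine hp.mul ⟨f₀ i, hf₀m i, ?_⟩
      show Polynomial.aeval (Ideal.Quotient.mkₐ E J (MvPolynomial.X i)) (f₀ i) = 0
      rw [Polynomial.aeval_algHom_apply]
      exact Ideal.Quotient.eq_zero_iff_mem.2 (Ideal.subset_span (Or.inl ⟨i, rfl⟩))
  -- the base change to `S` is `S₁`
  let Φ : D ⊗[E] S →ₐ[E] S₁ := Algebra.TensorProduct.productMap δ (IsScalarTower.toAlgHom E S S₁)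
  let Ψ : MvPolynomial (Fin m) S →+* D ⊗[E] S :=
    MvPolynomial.eval₂Hom (Algebra.TensorProduct.includeRight (R := E) (A := D) (B := S)).toRingHom
      fun i => x i ⊗ₜ[E] (1 : S)
  have hΨmap : ∀ h : MvPolynomial (Fin m) E,
      Ψ (MvPolynomial.map (algebraMap E S) h) = Ideal.Quotient.mk J h ⊗ₜ 1 := by
    intro h
    refine DFunLike.congr_fun (MvPolynomial.ringHom_ext (f := Ψ.comp (MvPolynomial.map (algebraMap E S)))
      (g := (Algebra.TensorProduct.includeLeftRingHom (R := E) (A := D) (B := S)).comp (Ideal.Quotient.mk J))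
      (fun r => ?_) fun i => ?_) h
    · simp only [RingHom.comp_apply, MvPolynomial.map_C, Ψ, MvPolynomial.eval₂Hom_C]
      show (1 : D) ⊗ₜ[E] algebraMap E S r = algebraMap E D r ⊗ₜ[E] (1 : S)
      rw [Algebra.algebraMap_eq_smul_one, Algebra.algebraMap_eq_smul_one, TensorProduct.smul_tmul]
    · simp [Ψ, x]
  have hΦΨ : ∀ h, Φ (Ψ h) = π h := by
    intro h
    refine DFunLike.congr_fun (MvPolynomial.ringHom_ext (f := Φ.toRingHom.comp Ψ) (g := π.toRingHom)
      (fun r => ?_) fun i => ?_) h
    · simp [Φ, Ψ, π]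
    · simp [Φ, Ψ, π, hδx]
  have hΨ : Function.Surjective Ψ := by
    intro z
    induction z using TensorProduct.induction_on with
    | zero => exact ⟨0, map_zero _⟩
    | add p q hp hq =>
      obtain ⟨p, rfl⟩ := hp
      obtain ⟨q, rfl⟩ := hq
      exact ⟨p + q, map_add _ _ _⟩
    | tmul d a =>
      obtain ⟨h, rfl⟩ := Ideal.Quotient.mk_surjective d
      refine ⟨MvPolynomial.map (algebraMap E S) h * MvPolynomial.C a, ?_⟩
      rw [map_mul, hΨmap]
      simp [Ψ, Algebra.TensorProduct.tmul_mul_tmul]
  have hbij : Function.Bijective Φ := by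
    refine ⟨(injective_iff_map_eq_zero Φ).2 fun z hz => ?_, fun z => ?_⟩
    · obtain ⟨h, rfl⟩ := hΨ z
      rw [hΦΨ] at hz
      have hh : h ∈ Ideal.span (G : Set (MvPolynomial (Fin m) S)) := hG.ge hz
      clear hz
      induction hh using Submodule.span_induction with
      | zero => exact map_zero Ψ
      | add p q _ _ hp hq => rw [map_add, hp, hq]; exact @add_zero (D ⊗[E] S) _ _
      | smul c p _ hp => rw [smul_eq_mul, map_mul, hp]; exact @mul_zero (D ⊗[E] S) _ _
      | mem g hg => ?_
      rw [← hG₀ g hg, hΨmap, (Ideal.Quotient.eq_zero_iff_mem (I := J)).2 (Ideal.subset_span (Or.inr ⟨⟨g, hg⟩, rfl⟩)),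
        zero_tmul]
    · obtain ⟨h, rfl⟩ := hπ z
      exact ⟨Ψ h, hΦΨ h⟩
  let eΦ : D ⊗[E] S ≃ₐ[E] S₁ := AlgEquiv.ofBijective Φ hbij
  -- `D` is local
  have := Henselian.Henselization.faithfullyFlat E S
  have : Nontrivial (D ⊗[E] S) := eΦ.toEquiv.nontrivial
  have hDne : Nontrivial D := by
    by_contra hn
    rw [not_nontrivial_iff_subsingleton] at hn
    exact not_subsingleton (D ⊗[E] S) (by infer_instance)
  have hloc : IsLocalRing D := by
    have key : ∀ M : Ideal D, M.IsMaximal → M = (maximalIdeal S₁).comap δ := by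
      intro M hM
      obtain ⟨P, hP⟩ := (PrimeSpectrum.comap_surjective_of_faithfullyFlat (A := D) (B := D ⊗[E] S)) ⟨M, hM.isPrime⟩
      let P₁ : Ideal S₁ := P.asIdeal.comap eΦ.symm.toRingEquiv.toRingHom
      have : P₁.IsPrime := Ideal.comap_isPrime _ _
      have hM₁ : M = P₁.comap δ := by
        ext z
        rw [show M = P.asIdeal.comap (algebraMap D (D ⊗[E] S)) from (congrArg PrimeSpectrum.asIdeal hP).symm]
        show z ⊗ₜ[E] (1 : S) ∈ P.asIdeal ↔ eΦ.symm (δ z) ∈ P.asIdeal
        rw [show δ z = eΦ (z ⊗ₜ 1) by simp [eΦ, Φ], AlgEquiv.symm_apply_apply]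
      have hmS : P₁.comap (algebraMap S S₁) = maximalIdeal S := by
        refine ((maximalIdeal.isMaximal S).eq_of_le (Ideal.comap_ne_top _ ‹P₁.IsPrime›.ne_top) ?_).symm
        rw [← Henselian.Henselization.map_maximalIdeal E S, Ideal.map_le_iff_le_comap, Ideal.comap_comap,
          show (algebraMap S S₁).comp (algebraMap E S) = (δ : D →+* S₁).comp (algebraMap E D) from
            (δ.comp_algebraMap).symm, ← Ideal.comap_comap]
        rw [show Ideal.comap (δ : D →+* S₁) P₁ = M from hM₁.symm]
        exact (eq_maximalIdeal (Ideal.isMaximal_comap_of_isIntegral_of_isMaximal (R := E) M)).ge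
      have hP₁ : P₁ = maximalIdeal S₁ :=
        eq_maximalIdeal (Ideal.isMaximal_of_isIntegral_of_isMaximal_comap (R := S) P₁
          (hmS ▸ maximalIdeal.isMaximal S))
      rw [hM₁, hP₁]
    obtain ⟨M₀, hM₀⟩ := Ideal.exists_maximal D
    exact IsLocalRing.of_unique_max_ideal ⟨M₀, hM₀, fun M hM => (key M hM).trans (key M₀ hM₀).symm⟩
  let : Algebra D S₁ := δ.toRingHom.toAlgebra
  have : IsLocalHom (algebraMap E D) :=
    ((local_hom_TFAE (algebraMap E D)).out 4 0).1
      (eq_maximalIdeal (Ideal.isMaximal_comap_of_isIntegral_of_isMaximal (R := E) (maximalIdeal D)))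
  obtain ⟨_, hl, hH⟩ := Henselian.LocalPair.isHenselization_tensor (R := E) D S
  have hlocδ : IsLocalHom (algebraMap D S₁) := by
    refine ⟨fun z hz => ?_⟩
    have h1 : IsUnit (z ⊗ₜ[E] (1 : S)) := by
      have := hz.map eΦ.symm
      rwa [show algebraMap D S₁ z = eΦ (z ⊗ₜ 1) by simp [eΦ, Φ, RingHom.algebraMap_toAlgebra],
        AlgEquiv.symm_apply_apply] at this
    exact hl.map_nonunit z h1
  have hH₁ : Hensel.IsHenselization D S₁ := by
    refine ⟨?_, fun T _ _ f hf => ?_⟩
    · have := ‹Hensel.IsHenselization E S›.henselian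
      exact Henselian.LocalRing.henselianLocalRing_of_isIntegral S S₁
    · obtain ⟨g, hg, huniq⟩ := hH.universal T f hf
      refine ⟨g.comp eΦ.symm.toRingEquiv.toRingHom, RingHom.ext fun z => ?_, fun g' hg' => ?_⟩
      · show g (eΦ.symm (δ z)) = f z
        rw [show δ z = eΦ (z ⊗ₜ 1) by simp [eΦ, Φ], AlgEquiv.symm_apply_apply]
        exact RingHom.congr_fun hg z
      · have := huniq (g'.comp eΦ.toRingEquiv.toRingHom) (RingHom.ext fun z => by
          show g' (eΦ (z ⊗ₜ 1)) = f z
          rw [show eΦ (z ⊗ₜ 1) = δ z by simp [eΦ, Φ]]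
          exact RingHom.congr_fun hg' z)
        rw [← this]
        ext z
        simp
  have : IsScalarTower A D S₁ := IsScalarTower.of_algebraMap_eq (R := A) (S := D) (A := S₁) fun a => by
    show algebraMap A S₁ a = δ (algebraMap A D a)
    rw [IsScalarTower.algebraMap_apply A E S₁, IsScalarTower.algebraMap_apply A E D, δ.commutes]
  have : Algebra.EssFiniteType A D := Algebra.EssFiniteType.comp A E D
  exact eftHens_of_local (D := D)

end Groth.Agent.Lib.HensFin45
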