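import Groth.Agent.Lib.HensFin45.Basic
import Groth.Agent.Lib.Henselian.Finite
import Groth.Agent.Lib.Henselian.LocalRing

/-!
# Descending henselizations along finite injective maps
-/

set_option autoImplicit false

universe u

open IsLocalRing

namespace Groth.Agent.Lib.HensFin45

/-- A finite algebra over a henselian local ring without nontrivial idempotents is local. -/
theorem isLocalRing_of_injective {H M L : Type u} [CommRing H] [HenselianLocalRing H] [CommRing M]
    [Algebra H M] [Module.Finite H M] [CommRing L] [IsLocalRing L] (j : M →+* L) (hj : Function.Injective j) :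
    IsLocalRing M := by
  classical
  have hb := Henselian.Finite.toPiLocalization_bijective (A := H) (B := M)
  have : Nontrivial M := j.domain_nontrivial
  obtain ⟨M₀, hM₀⟩ := Ideal.exists_maximal M
  refine IsLocalRing.of_unique_max_ideal ⟨M₀, hM₀, fun M₁ hM₁ => ?_⟩
  by_contra hne
  let n₀ : MaximalSpectrum M := ⟨M₀, hM₀⟩
  let n₁ : MaximalSpectrum M := ⟨M₁, hM₁⟩
  have hn : n₁ ≠ n₀ := fun h => hne (congrArg MaximalSpectrum.asIdeal h)
  obtain ⟨e, he⟩ := hb.2 (Pi.single n₀ 1)
  have hidem : IsIdempotentElem e := hb.1 (by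
    rw [map_mul, he]
    ext n
    rcases eq_or_ne n n₀ with rfl | h
    · simp
    · simp [Pi.single_eq_of_ne h])
  rcases IsLocalRing.isUnit_or_isUnit_one_sub_self (j e) with h | h
  · have h1 : e = 1 := hj (by rw [map_one]; exact (IsIdempotentElem.iff_eq_one_of_isUnit h).1 (hidem.map j))
    have h2 := congrFun he n₁
    rw [h1, map_one, Pi.one_apply, Pi.single_eq_of_ne hn] at h2
    exact one_ne_zero h2
  · have h0 : e = 0 := hj (by
      rw [map_zero]
      have := (IsIdempotentElem.iff_eq_one_of_isUnit h).1 (hidem.map j).one_sub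
      linear_combination -this)
    have h2 := congrFun he n₀
    rw [h0, map_zero, Pi.zero_apply, Pi.single_eq_same] at h2
    exact zero_ne_one h2

/-- The converse along a finite injective local map. -/
theorem eftHens_of_injective {A S S₁ : Type u} [CommRing A] [IsNoetherianRing A] [CommRing S]
    [HenselianLocalRing S] [IsNoetherianRing S] [CommRing S₁] [HenselianLocalRing S₁]
    [Algebra A S] [Algebra A S₁] [Algebra S S₁] [IsScalarTower A S S₁] [Module.Finite S S₁]
    [IsLocalHom (algebraMap S S₁)] (hinj : Function.Injective (algebraMap S S₁))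
    (h : EftHens A S₁) : EftHens A S := by
  classical
  obtain ⟨B, _, _, _, p, _, _, _, _, hH⟩ := h
  obtain ⟨gs, hgs⟩ := (Algebra.FiniteType.out : (⊤ : Subalgebra A B).FG)
  let β : B →ₐ[A] S₁ :=
    (IsScalarTower.toAlgHom A (Localization.AtPrime p) S₁).comp (IsScalarTower.toAlgHom A B (Localization.AtPrime p))
  choose f hfm hfb using fun g : B => Algebra.IsIntegral.isIntegral (R := S) (β g)
  let cs : Finset S := gs.biUnion fun g => (f g).coeffs
  let C := Algebra.adjoin A (cs : Set S)
  have : Algebra.FiniteType A C := (Subalgebra.fg_iff_finiteType C).1 (Subalgebra.fg_adjoin_finset cs)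
  have : IsNoetherianRing C := Algebra.FiniteType.isNoetherianRing A C
  let q : Ideal C := (maximalIdeal S).comap C.val.toRingHom
  have : q.IsPrime := Ideal.comap_isPrime _ _
  let R₀ := Localization.AtPrime q
  have hu : ∀ y : q.primeCompl, IsUnit (C.val.toRingHom y) := fun y => notMem_maximalIdeal.1 y.2
  let ψ : R₀ →+* S := IsLocalization.lift hu
  have hψ : ∀ c : C, ψ (algebraMap C R₀ c) = (c : S) := fun c => IsLocalization.lift_eq hu c
  have hψloc : IsLocalHom ψ := by
    refine ⟨fun z hz => ?_⟩
    obtain ⟨a, t, rfl⟩ := IsLocalization.exists_mk'_eq q.primeCompl z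
    rw [IsLocalization.AtPrime.isUnit_mk'_iff R₀ q]
    intro ha
    have h1 : IsUnit (ψ (IsLocalization.mk' R₀ a t) * ψ (algebraMap C R₀ t)) :=
      hz.mul (by rw [hψ]; exact hu t)
    rw [← map_mul, IsLocalization.mk'_spec, hψ] at h1
    exact (mem_maximalIdeal _).1 ha h1
  let H₀ := Henselian.Henselization.Henselization R₀
  obtain ⟨g, hg, -⟩ := Hensel.IsHenselization.universal (R := R₀) (S := H₀) S ψ hψloc
  let : Algebra H₀ S := g.toAlgebra
  let : Algebra A H₀ := ((algebraMap R₀ H₀).comp (algebraMap A R₀)).toAlgebra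
  have : IsScalarTower A R₀ H₀ := IsScalarTower.of_algebraMap_eq fun _ => rfl
  have hgR : ∀ r : R₀, g (algebraMap R₀ H₀ r) = ψ r := fun r => RingHom.congr_fun hg r
  have : IsScalarTower A H₀ S := IsScalarTower.of_algebraMap_eq fun a => by
    show algebraMap A S a = g (algebraMap R₀ H₀ (algebraMap A R₀ a))
    rw [hgR, IsScalarTower.algebraMap_apply A C R₀, hψ]
    rfl
  let : Algebra H₀ S₁ := ((algebraMap S S₁).comp g).toAlgebra
  have : IsScalarTower H₀ S S₁ := IsScalarTower.of_algebraMap_eq fun _ => rfl
  have : IsScalarTower A H₀ S₁ := IsScalarTower.of_algebraMap_eq fun a => by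
    rw [IsScalarTower.algebraMap_apply A S S₁, IsScalarTower.algebraMap_apply A H₀ S]
    rfl
  have hcs : ∀ c ∈ cs, ∃ x : H₀, g x = c := fun c hc => by
    refine ⟨algebraMap R₀ H₀ (algebraMap C R₀ ⟨c, Algebra.subset_adjoin hc⟩), ?_⟩
    rw [hgR, hψ]
  have hint : ∀ b ∈ gs, IsIntegral H₀ (β b) := fun b hb => by
    have hl : f b ∈ Polynomial.lifts g := by
      rw [Polynomial.lifts_iff_coeff_lifts]
      intro j
      by_cases hj : (f b).coeff j = 0
      · rw [hj]; exact ⟨0, map_zero _⟩
      · exact hcs _ (Finset.mem_biUnion.2 ⟨b, hb, Polynomial.coeff_mem_coeffs hj⟩)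
    obtain ⟨P, hP, -, hPm⟩ := Polynomial.lifts_and_degree_eq_and_monic hl (hfm b)
    refine ⟨P, hPm, ?_⟩
    rw [show algebraMap H₀ S₁ = (algebraMap S S₁).comp g from rfl, ← Polynomial.eval₂_map, hP]
    exact hfb b
  let M := Algebra.adjoin H₀ (β '' (gs : Set B))
  have : Module.Finite H₀ M := Module.Finite.iff_fg.2
    (fg_adjoin_of_finite (gs.finite_toSet.image β) (by rintro _ ⟨b, hb, rfl⟩; exact hint b hb))
  have : IsLocalRing M := isLocalRing_of_injective (H := H₀) M.val.toRingHom Subtype.val_injective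
  have : HenselianLocalRing M := Henselian.LocalRing.henselianLocalRing_of_isIntegral H₀ M
  have hβM : ∀ b : B, β b ∈ M := by
    have : (⊤ : Subalgebra A B) ≤ (M.restrictScalars A).comap β := by
      rw [← hgs, Algebra.adjoin_le_iff]
      intro b hb
      exact Algebra.subset_adjoin (Set.mem_image_of_mem _ hb)
    exact fun b => this trivial
  have hgloc : IsLocalHom g := by
    refine ⟨fun x hx => ?_⟩
    by_contra hc
    have h1 : x ∈ (maximalIdeal R₀).map (algebraMap R₀ H₀) := by
      rw [Henselian.Henselization.map_maximalIdeal R₀ H₀]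
      exact (mem_maximalIdeal _).2 hc
    have h2 : g x ∈ (maximalIdeal R₀).map (g.comp (algebraMap R₀ H₀)) := by
      rw [← Ideal.map_map]
      exact Ideal.mem_map_of_mem g h1
    rw [hg] at h2
    exact (mem_maximalIdeal _).1 ((((local_hom_TFAE ψ).out 0 2 rfl rfl).1 hψloc) h2) hx
  have hMu : ∀ x : M, IsUnit (x : S₁) → IsUnit x := by
    intro x hx
    by_contra hc
    have h0 : IsLocalHom (algebraMap H₀ S₁) := RingHom.isLocalHom_comp _ _
    let Q : Ideal M := (maximalIdeal S₁).comap M.val.toRingHom
    have : Q.IsPrime := Ideal.comap_isPrime _ _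
    have hQ : Q.IsMaximal := by
      refine Ideal.isMaximal_of_isIntegral_of_isMaximal_comap (R := H₀) Q ?_
      rw [show Q.comap (algebraMap H₀ M) = (maximalIdeal S₁).comap (algebraMap H₀ S₁) from rfl,
        (((local_hom_TFAE (algebraMap H₀ S₁)).out 0 4 rfl rfl).1 h0)]
      exact maximalIdeal.isMaximal H₀
    have hxQ : x ∈ Q := (eq_maximalIdeal hQ) ▸ (mem_maximalIdeal x).2 hc
    exact (mem_maximalIdeal _).1 (show (x : S₁) ∈ maximalIdeal S₁ from hxQ) hx
  let βM : B →+* M := β.toRingHom.codRestrict M.toSubring hβM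
  have huM : ∀ y : p.primeCompl, IsUnit (βM y) := fun y => hMu _
    ((IsLocalization.map_units (Localization.AtPrime p) y).map (algebraMap (Localization.AtPrime p) S₁))
  let γ : Localization.AtPrime p →+* M := IsLocalization.lift huM
  have hγ : M.val.toRingHom.comp γ = algebraMap (Localization.AtPrime p) S₁ := by
    refine IsLocalization.ringHom_ext p.primeCompl (RingHom.ext fun b => ?_)
    rw [RingHom.comp_assoc]
    show (γ (algebraMap B _ b) : S₁) = _
    rw [IsLocalization.lift_eq]
    rfl
  have hγloc : IsLocalHom γ := ⟨fun z hz => by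
    refine (‹IsLocalHom (algebraMap (Localization.AtPrime p) S₁)›).map_nonunit z ?_
    rw [← hγ]
    exact hz.map M.val⟩
  obtain ⟨u, hu', -⟩ := hH.universal M γ hγloc
  have hid : M.val.toRingHom.comp u = RingHom.id S₁ :=
    (hH.universal S₁ (algebraMap (Localization.AtPrime p) S₁) inferInstance).unique
      (by rw [RingHom.comp_assoc, hu', hγ]) (RingHom.id_comp _)
  have : Module.Finite H₀ S₁ :=
    Module.Finite.of_surjective M.val.toLinearMap fun x => ⟨u x, RingHom.congr_fun hid x⟩
  have : IsNoetherianRing R₀ := IsLocalization.isNoetherianRing q.primeCompl R₀ inferInstance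
  have : IsNoetherianRing H₀ := Henselian.Permanence.isNoetherianRing R₀ H₀
  have : Module.Finite H₀ S :=
    Module.Finite.of_injective (IsScalarTower.toAlgHom H₀ S S₁).toLinearMap hinj
  have : IsLocalHom (algebraMap H₀ S) := hgloc
  have : Algebra.EssFiniteType A R₀ := Algebra.EssFiniteType.comp A C R₀
  exact eftHens_of_finite (R := R₀) (S := H₀)

end Groth.Agent.Lib.HensFin45
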